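import Cfsg.Agent.SchurG.U43.Pres

set_option autoImplicit false
set_option maxRecDepth 100000

namespace Cfsg.Agent.SchurG.U43
open Cfsg.Agent.Comp

noncomputable def n0 : Net :=
(Net.cons (nat_lit 0xf8b26020240008) (nat_lit 56)
(Net.cons (nat_lit 0x35b552400000007836272) (nat_lit 28)
(Net.cons (nat_lit 0x14c00003ee8000199c0000ece) (nat_lit 14)
(Net.cons (nat_lit 0x20006016001a010802000f004c) (nat_lit 7)
(Net.cons (nat_lit 0x814201080020404183850800207) (nat_lit 4)
(Net.cons (nat_lit 0x2440000200881000081120000010) (nat_lit 2)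
(Net.cons (nat_lit 0x22402102044a1102108910854011) (nat_lit 1)
(Net.cons (nat_lit 0x24c00322080112004183000c812) (nat_lit 2)
(Net.cons (nat_lit 0x8000810010104001c385081c283) (nat_lit 4)
(Net.cons (nat_lit 0x10407a01b803c01480300130024) (nat_lit 7)
(Net.cons (nat_lit 0x23bc000339c00030e40003a84) (nat_lit 14)
(Net.cons (nat_lit 0x995e45100000007996e1a) (nat_lit 28)
(Net.cons (nat_lit 0xe8b6c022200008) (nat_lit 56)
Net.nil)))))))))))))

noncomputable def n1 : Net :=
(Net.cons (nat_lit 0xe8b6c022200008) (nat_lit 56)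
(Net.cons (nat_lit 0x66a1b2e00000007996e1a) (nat_lit 28)
(Net.cons (nat_lit 0x339c0003ac800030e40003a84) (nat_lit 14)
(Net.cons (nat_lit 0x1b003c000000001480200130024) (nat_lit 7)
(Net.cons (nat_lit 0x1000000105001c386081c003) (nat_lit 4)
(Net.cons (nat_lit 0x2008012200010000080000000012) (nat_lit 2)
(Net.cons (nat_lit 0x2044a142000a140204a050854011) (nat_lit 1)
(Net.cons (nat_lit 0x2208813060c0102004091000c090) (nat_lit 2)
(Net.cons (nat_lit 0x8102060a1408404183830800087) (nat_lit 4)
(Net.cons (nat_lit 0x16801a01a4040010806000f004c) (nat_lit 7)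
(Net.cons (nat_lit 0x3ee8000065d000199c0000ece) (nat_lit 14)
(Net.cons (nat_lit 0xca4aa9b00000007836272) (nat_lit 28)
(Net.cons (nat_lit 0xf8b26020240008) (nat_lit 56)
Net.nil)))))))))))))

noncomputable def n2 : Net :=
(Net.cons (nat_lit 0xf3e2a7efab32c4) (nat_lit 56)
(Net.cons (nat_lit 0x89a630000000030bf836) (nat_lit 28)
(Net.cons (nat_lit 0x2b320000a1200029800002ce4) (nat_lit 14)
(Net.cons (nat_lit 0x120062012805001b805e0018018) (nat_lit 7)
(Net.cons (nat_lit 0xc103070a0830306043000a1c084) (nat_lit 4)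
(Net.cons (nat_lit 0x2448000240091204400002000100) (nat_lit 2)
(Net.cons (nat_lit 0x2844a15224089108542002a50a04) (nat_lit 1)
(Net.cons (nat_lit 0x2248003020010220481930208080) (nat_lit 2)
(Net.cons (nat_lit 0xc103860a04300060c300020c204) (nat_lit 4)
(Net.cons (nat_lit 0x1c402b00e40780128032006c024) (nat_lit 7)
(Net.cons (nat_lit 0x2a1300013a300008e4000264a) (nat_lit 14)
(Net.cons (nat_lit 0x6c6f8210000000cc1de3e) (nat_lit 28)
(Net.cons (nat_lit 0xf3bf4bfdd8266c) (nat_lit 56)
Net.nil)))))))))))))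

noncomputable def n3 : Net :=
(Net.cons (nat_lit 0xf3bf4bfdd8266c) (nat_lit 56)
(Net.cons (nat_lit 0x6c6f8200000000cc1fe5e) (nat_lit 28)
(Net.cons (nat_lit 0x25480002c5800008e40003018) (nat_lit 14)
(Net.cons (nat_lit 0x5006001a004600b80320120056) (nat_lit 7)
(Net.cons (nat_lit 0x41c3060c00105021c3000804080) (nat_lit 4)
(Net.cons (nat_lit 0x900040800220480000000000) (nat_lit 2)
(Net.cons (nat_lit 0x2a50885224409428440800a50894) (nat_lit 1)
(Net.cons (nat_lit 0x608981244801100401930040912) (nat_lit 2)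
(Net.cons (nat_lit 0x6183060c0c08502043000804384) (nat_lit 4)
(Net.cons (nat_lit 0xd40780148035011805e00d4024) (nat_lit 7)
(Net.cons (nat_lit 0x30e100035e900029000002242) (nat_lit 14)
(Net.cons (nat_lit 0x489a63000000003abf8b6) (nat_lit 28)
(Net.cons (nat_lit 0xf3e2a7efab32c4) (nat_lit 56)
Net.nil)))))))))))))

noncomputable def n4 : Net :=
(Net.cons (nat_lit 0xe4020000000000) (nat_lit 56)
(Net.cons (nat_lit 0xc5124800000000a001208) (nat_lit 28)
(Net.cons (nat_lit 0x28b8000190400019000002c54) (nat_lit 14)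
(Net.cons (nat_lit 0x180028015002001d007a0008000) (nat_lit 7)
(Net.cons (nat_lit 0x10081000020200041840608306) (nat_lit 4)
(Net.cons (nat_lit 0x2048102000000224400020000802) (nat_lit 2)
(Net.cons (nat_lit 0x28440910a5020428542842040884) (nat_lit 1)
(Net.cons (nat_lit 0x224c102044410024408020408092) (nat_lit 2)
(Net.cons (nat_lit 0x800305061c1840e04185040c086) (nat_lit 4)
(Net.cons (nat_lit 0x3407401a804e01d007a0144000) (nat_lit 7)
(Net.cons (nat_lit 0x28ba00019040001d000002dd4) (nat_lit 14)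
(Net.cons (nat_lit 0xc7724800000000a001208) (nat_lit 28)
(Net.cons (nat_lit 0xe4020000000000) (nat_lit 56)
Net.nil)))))))))))))

noncomputable def n5 : Net :=
(Net.cons (nat_lit 0xe20a22818011c0) (nat_lit 56)
(Net.cons (nat_lit 0xd1ee700000000039651c0) (nat_lit 28)
(Net.cons (nat_lit 0x1946000347800008d80002270) (nat_lit 14)
(Net.cons (nat_lit 0x1500020128040019005001a804e) (nat_lit 7)
(Net.cons (nat_lit 0x200002001030000000010818187) (nat_lit 4)
(Net.cons (nat_lit 0x800200810000480020000010) (nat_lit 2)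
(Net.cons (nat_lit 0x2054800200421100500010814295) (nat_lit 1)
(Net.cons (nat_lit 0x244c18326481802248882004c810) (nat_lit 2)
(Net.cons (nat_lit 0x20020200001000e000010c18187) (nat_lit 4)
(Net.cons (nat_lit 0x10057017803801b007001a807e) (nat_lit 7)
(Net.cons (nat_lit 0x219600016e800008d90002270) (nat_lit 14)
(Net.cons (nat_lit 0x363ef10000000039651c0) (nat_lit 28)
(Net.cons (nat_lit 0xe20a22818011c0) (nat_lit 56)
Net.nil)))))))))))))

noncomputable def n6 : Net :=
(Net.cons (nat_lit 0xcc218054924000) (nat_lit 56)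
(Net.cons (nat_lit 0x4b658a000000000020000) (nat_lit 28)
(Net.cons (nat_lit 0xa000000c08000106000007c8) (nat_lit 14)
(Net.cons (nat_lit 0x220040070014003201c8022) (nat_lit 7)
(Net.cons (nat_lit 0x60c006021018100140040800304) (nat_lit 4)
(Net.cons (nat_lit 0x8000040090000081102000000) (nat_lit 2)
(Net.cons (nat_lit 0x81008428548900a040902044284) (nat_lit 1)
(Net.cons (nat_lit 0x2440183024008326489122000010) (nat_lit 2)
(Net.cons (nat_lit 0x21c1060400201001c0050a1c306) (nat_lit 4)
(Net.cons (nat_lit 0xb801900b0070014003201e8022) (nat_lit 7)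
(Net.cons (nat_lit 0x9630000868000106000007c8) (nat_lit 14)
(Net.cons (nat_lit 0x4b678a000000000020000) (nat_lit 28)
(Net.cons (nat_lit 0xcc218054924000) (nat_lit 56)
Net.nil)))))))))))))

noncomputable def n7 : Net :=
(Net.cons (nat_lit 0x8908200000000e) (nat_lit 56)
(Net.cons (nat_lit 0x86b15d4000000021d0526) (nat_lit 28)
(Net.cons (nat_lit 0x3130000111000024fa0001c9c) (nat_lit 14)
(Net.cons (nat_lit 0x15001400f001a002001601a0010) (nat_lit 7)
(Net.cons (nat_lit 0x410082000810208043830210003) (nat_lit 4)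
(Net.cons (nat_lit 0x400002200801204408020440010) (nat_lit 2)
(Net.cons (nat_lit 0x285481420100912850a012244814) (nat_lit 1)
(Net.cons (nat_lit 0x2600100240018124448910648993) (nat_lit 2)
(Net.cons (nat_lit 0xe142850a1810708100010a18007) (nat_lit 4)
(Net.cons (nat_lit 0x8c06000f0006000000e01b4002) (nat_lit 7)
(Net.cons (nat_lit 0x38030002c9100026d50002c8a) (nat_lit 14)
(Net.cons (nat_lit 0x782e65100000005135026) (nat_lit 28)
(Net.cons (nat_lit 0xa0500080001042) (nat_lit 56)
Net.nil)))))))))))))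

noncomputable def n8 : Net :=
(Net.cons (nat_lit 0xa0500080001042) (nat_lit 56)
(Net.cons (nat_lit 0x85d19a600000005135026) (nat_lit 28)
(Net.cons (nat_lit 0x8a80002f1e00008220002c8a) (nat_lit 14)
(Net.cons (nat_lit 0x148018000006a01d00200048010) (nat_lit 7)
(Net.cons (nat_lit 0xe04384081c08400041040c14085) (nat_lit 4)
(Net.cons (nat_lit 0x10000800200409122400810) (nat_lit 2)
(Net.cons (nat_lit 0x8508142050a140250a112250890) (nat_lit 1)
(Net.cons (nat_lit 0x608910060010326001132004193) (nat_lit 2)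
(Net.cons (nat_lit 0x40c00000082860e083050804207) (nat_lit 4)
(Net.cons (nat_lit 0x15806c000001c00c4048005c058) (nat_lit 7)
(Net.cons (nat_lit 0x32950001e7300033010001c9c) (nat_lit 14)
(Net.cons (nat_lit 0x794e80b000000021d0526) (nat_lit 28)
(Net.cons (nat_lit 0x8908200000000e) (nat_lit 56)
Net.nil)))))))))))))

noncomputable def n9 : Net :=
(Net.cons (nat_lit 0xffbfff12a50104) (nat_lit 56)
(Net.cons (nat_lit 0xa8a7d400000000ba87900) (nat_lit 28)
(Net.cons (nat_lit 0x387a00021b600031580001108) (nat_lit 14)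
(Net.cons (nat_lit 0x30016002006a00b80080070078) (nat_lit 7)
(Net.cons (nat_lit 0x204041828400100020010202) (nat_lit 4)
(Net.cons (nat_lit 0x44080020401002400010) (nat_lit 2)
(Net.cons (nat_lit 0x54284224080520540952854a10) (nat_lit 1)
(Net.cons (nat_lit 0xc80004489902000910240c012) (nat_lit 2)
(Net.cons (nat_lit 0xe102050c1c284020c0060e10206) (nat_lit 4)
(Net.cons (nat_lit 0x12007e003006a00a000e0070078) (nat_lit 7)
(Net.cons (nat_lit 0x387a00021b6000360e0001108) (nat_lit 14)
(Net.cons (nat_lit 0xa0a5d400000000ba87902) (nat_lit 28)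
(Net.cons (nat_lit 0xffbdff32250102) (nat_lit 56)
Net.nil)))))))))))))

noncomputable def n10 : Net :=
(Net.cons (nat_lit 0xbdc25b28bd2200) (nat_lit 56)
(Net.cons (nat_lit 0x8c0000800000009775100) (nat_lit 28)
(Net.cons (nat_lit 0x22aa0002a260000fb80000920) (nat_lit 14)
(Net.cons (nat_lit 0xa006000400800220180028) (nat_lit 7)
(Net.cons (nat_lit 0x814304000408408083000418286) (nat_lit 4)
(Net.cons (nat_lit 0x810000811200088000008800) (nat_lit 2)
(Net.cons (nat_lit 0x2a4081128042110010a950050a84) (nat_lit 1)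
(Net.cons (nat_lit 0xc91000088012400812244c803) (nat_lit 2)
(Net.cons (nat_lit 0xe1438600040810c083030004286) (nat_lit 4)
(Net.cons (nat_lit 0x9404c016800a018402a0180020) (nat_lit 7)
(Net.cons (nat_lit 0x22aa0002a260001bb40000d20) (nat_lit 14)
(Net.cons (nat_lit 0x848010900000008776479) (nat_lit 28)
(Net.cons (nat_lit 0xbdc25b28bd2200) (nat_lit 56)
Net.nil)))))))))))))

noncomputable def T : List Net := [n0, n1, n2, n3, n4, n5, n6, n7, n8, n9, n10]

theorem ok : TOK 112 T := TOK_of_ok (by decide +kernel)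

def E : List (List Nat × List Nat) :=
  []

theorem sat : Sat (sig T) R :=
  sat_of_relsP ok (by norm_num) (show relsP (nat_lit 112) (nat_lit 7) (nat_lit 0) (nat_lit 7) T R = true by decide +kernel)

theorem eqs : ∀ e ∈ E, ev (sig T) e.1 = ev (sig T) e.2 := eqs_nil _

def lowW1 : List (List Nat) := [[0],
   [1],
   [2],
   [3],
   [4],
   [5],
   [6],
   [7],
   [8],
   [9]]

def lowW2 : List (List Nat) := [[0],
   [1],
   [2],
   [3],
   [4],
   [5],
   [6],
   [7],
   [8]]

def lowW3 : List (List Nat) := [[0],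
   [1],
   [2],
   [3],
   [4],
   [5],
   [6]]

def lowW4 : List (List Nat) := [[0],
   [1],
   [2],
   [3],
   [4]]

def lowW5 : List (List Nat) := [[0],
   [1]]

theorem low_5 : 3 ≤ Nat.card (genW (sig T) lowW5) :=
  chain_step (W' := []) (b := 25) (n := 3) (m := 1) ok (le_of_subOK eqs (show subOK lowW5 [] E = true by decide +kernel)) (by decide +kernel)
    (le_ncard_of_orbGe ok (by norm_num) (show orbGe (nat_lit 112) (nat_lit 7) T lowW5 [0, 0] (nat_lit 25) (nat_lit 3) = true by decide +kernel))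
    (chain_base ok [])

theorem low_4 : 18 ≤ Nat.card (genW (sig T) lowW4) :=
  chain_step (W' := lowW5) (b := 3) (n := 6) (m := 3) ok (le_of_subOK eqs (show subOK lowW4 lowW5 E = true by decide +kernel)) (by decide +kernel)
    (le_ncard_of_orbGe ok (by norm_num) (show orbGe (nat_lit 112) (nat_lit 7) T lowW4 [2, 4, 2] (nat_lit 3) (nat_lit 6) = true by decide +kernel))
    low_5

theorem low_3 : 486 ≤ Nat.card (genW (sig T) lowW3) :=
  chain_step (W' := lowW4) (b := 2) (n := 27) (m := 18) ok (le_of_subOK eqs (show subOK lowW3 lowW4 E = true by decide +kernel)) (by decide +kernel)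
    (le_ncard_of_ivl (a := 2) ok (by norm_num) (show Nat.beq (grow T lowW3 [5, 6, 4, 0, 5, 6, 4] (pt (nat_lit 2))) (ivl (nat_lit 2) (nat_lit 27)) = true by decide +kernel))
    low_4

theorem low_2 : 972 ≤ Nat.card (genW (sig T) lowW2) :=
  chain_step (W' := lowW3) (b := 29) (n := 2) (m := 486) ok (le_of_subOK eqs (show subOK lowW2 lowW3 E = true by decide +kernel)) (by decide +kernel)
    (le_ncard_of_ivl (a := 29) ok (by norm_num) (show Nat.beq (grow T lowW2 [7] (pt (nat_lit 29))) (ivl (nat_lit 29) (nat_lit 2)) = true by decide +kernel))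
    low_3

theorem low_1 : 29160 ≤ Nat.card (genW (sig T) lowW1) :=
  chain_step (W' := lowW2) (b := 1) (n := 30) (m := 972) ok (le_of_subOK eqs (show subOK lowW1 lowW2 E = true by decide +kernel)) (by decide +kernel)
    (le_ncard_of_ivl (a := 1) ok (by norm_num) (show Nat.beq (grow T lowW1 [9, 5, 6, 7, 4, 6, 5, 9, 2] (pt (nat_lit 1))) (ivl (nat_lit 1) (nat_lit 30)) = true by decide +kernel))
    low_2

theorem low : 3265920 ≤ Nat.card (genW (sig T) (letters 11)) :=
  chain_step (W' := lowW1) (b := 0) (n := 112) (m := 29160) ok (le_of_subOK eqs (show subOK (letters 11) lowW1 E = true by decide +kernel)) (by decide +kernel)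
    (le_ncard_of_ivl (a := 0) ok (by norm_num) (show Nat.beq (grow T (letters 11) [10, 0, 2, 4, 6, 7, 9, 5, 7, 10, 9, 7, 2, 9] (pt (nat_lit 0))) (ivl (nat_lit 0) (nat_lit 112)) = true by decide +kernel))
    low_1


end Cfsg.Agent.SchurG.U43
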