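import Cfsg.Agent.SchurG.U43.Up
import Cfsg.Agent.SchurG.U43.Nets

set_option autoImplicit false
set_option maxRecDepth 100000

namespace Cfsg.Agent.SchurG.U43
open Cfsg.Agent.Comp

def W0 : List (List Nat) := [[0],
[1],
[2],
[3],
[4],
[5],
[6],
[7],
[8],
[9]]

noncomputable def phi : G →* Equiv.Perm ℕ := (pres.rep ok sat).choose

theorem rep : Rep s 11 112 T phi := (pres.rep ok sat).choose_spec

theorem trans : ∀ i < 112, ∃ g, phi g 0 = i :=
  rep.trans (sch := [10, 0, 2, 4, 6, 7, 9, 5, 7, 10, 9, 7, 2, 9]) (by decide +kernel)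

theorem stab : (genW s W0).index = 112 ∧ ∀ g, g ∈ genW s W0 ↔ phi g 0 = 0 :=
  rep.stab_eq (by decide +kernel) (by norm_num) trans (by decide +kernel) (Top.index _ s pres.sat)

theorem orb1 : MulAction.orbit (genW (sig T) W0) 1 = Set.Ico 1 (1 + 30) ∧
    (MulAction.orbit (genW (sig T) W0) 1).ncard = 30 :=
  orbit_ivl (sch := [9, 5, 6, 7, 4, 6, 5, 9, 2]) ok (by norm_num) (by norm_num) (by decide +kernel) (by decide +kernel)

theorem orb31 : MulAction.orbit (genW (sig T) W0) 31 = Set.Ico 31 (31 + 81) ∧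
    (MulAction.orbit (genW (sig T) W0) 31).ncard = 81 :=
  orbit_ivl (sch := [0, 2, 4, 6, 5, 9, 7, 6, 0, 5]) ok (by norm_num) (by norm_num) (by decide +kernel) (by decide +kernel)

namespace Col

noncomputable def t0 : Tr := (Tr.node (nat_lit 0) (Tr.leaf (nat_lit 0x8e88963ffe062fffffffffe0dffffffffffffff04cc5441a5ffffffffffffffff008fffffffffffff815a222255ffffffffffffffffffffffffffffffffc0ab091129fffffffffffffffffffffffffffffc0a7fff5481140020058fff816bffffffffffffffffffffffa9409300590087ffffffffffffffffffe425fff8a694204d8fffffffffe010ffffffffffffffff8a63ffe9d02c9ffffffe0102887ffc531ffffffffffffffff4c87fffffffffffffffc021fffffffffcd2fffffffa540221ffffffffffffffff0087fffffffffffffffd22075020a9c5fffe6d7ffffffc021fffffffffc52a8d02e9fffffffffffffffffffffff0298043ffffff44818407a7fff2e87ffc049fff0118043ffffff149a1403a3fffffffffffffffffffffffffffff0288041020210011008404001fffffffc03bfff00e0043ffe000fff9240da06503481f402a07903281a404a0290))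
(Tr.leaf (nat_lit 0x7ffffffffffffffffffffffffffffffffffffff8003ffffffffffffffffffffffffffffffffffffffc001ffffffffffffffffffffffffffffffffffffffe000fffffffffffffffffffffffffffffffffffffff0007ffffffffffffffffffffffffffffffffffffff8003ffffffffffffffffffffffffffffffffffffffc001ffffffffffffffffffffffffffffffffffffffe000fffffffffffffffffffffffffffffffffffffff9498e4c026065fff819bfffffffffffffffffff1b3c94c7ca325009ffffffffffffffffc5b5ffffff8b9a3a6550212fffc0262d3fffffffffe4d814c7ffc84b19332bffffffffffffffffffffffffff815fffffff889fffffffffffffffffffffffffffffc0abffffffca47ffffffffffffffffffffffffffffffffffffffe4a225affffffffffffffffffffffffffffffffc0b521112c8187fffffffffffffffffffffffffc331fff)))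

noncomputable def T : Tr := t0

def RT : List (List (List Nat)) := [
  [[nat_lit 5, nat_lit 1, nat_lit 5],
   [nat_lit 9, nat_lit 10, nat_lit 1, nat_lit 9, nat_lit 10],
   [nat_lit 0],
   [nat_lit 9, nat_lit 1, nat_lit 9],
   [nat_lit 4, nat_lit 1, nat_lit 4]],
  [[nat_lit 7, nat_lit 1, nat_lit 5, nat_lit 7],
   [nat_lit 0, nat_lit 0],
   [nat_lit 1],
   [nat_lit 3, nat_lit 1, nat_lit 2]],
  [[nat_lit 8, nat_lit 3, nat_lit 1, nat_lit 7],
   [nat_lit 2],
   [nat_lit 6, nat_lit 3, nat_lit 6],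
   [nat_lit 4, nat_lit 3, nat_lit 4]],
  [[nat_lit 9, nat_lit 3, nat_lit 9, nat_lit 0],
   [nat_lit 3],
   [nat_lit 2, nat_lit 2]],
  [[nat_lit 4]],
  [[nat_lit 5],
   [nat_lit 8, nat_lit 1, nat_lit 8, nat_lit 1]],
  [[nat_lit 8, nat_lit 3, nat_lit 4, nat_lit 7]],
  [[nat_lit 8, nat_lit 3, nat_lit 5, nat_lit 2, nat_lit 1],
   [nat_lit 10, nat_lit 9],
   [nat_lit 7],
   [nat_lit 0, nat_lit 4, nat_lit 7, nat_lit 6, nat_lit 2]],
  [[nat_lit 8]],
  [[nat_lit 8, nat_lit 10],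
   [nat_lit 10, nat_lit 7]],
  [[nat_lit 9, nat_lit 8],
   [nat_lit 7, nat_lit 9],
   [nat_lit 10],
   [nat_lit 4, nat_lit 2, nat_lit 10, nat_lit 4, nat_lit 2]],
  [[nat_lit 5, nat_lit 7, nat_lit 0, nat_lit 7, nat_lit 1],
   [nat_lit 1, nat_lit 0],
   [nat_lit 0, nat_lit 10, nat_lit 9, nat_lit 0, nat_lit 10, nat_lit 9],
   [nat_lit 3, nat_lit 2],
   [nat_lit 0, nat_lit 10, nat_lit 0, nat_lit 10, nat_lit 0, nat_lit 10],
   [nat_lit 8, nat_lit 7],
   [nat_lit 10, nat_lit 2, nat_lit 8, nat_lit 1, nat_lit 10, nat_lit 2, nat_lit 8, nat_lit 1],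
   [nat_lit 7, nat_lit 8],
   [nat_lit 9, nat_lit 9],
   [nat_lit 0, nat_lit 10, nat_lit 2, nat_lit 5, nat_lit 8, nat_lit 10, nat_lit 7, nat_lit 7, nat_lit 10, nat_lit 5],
   [nat_lit 2, nat_lit 3],
   [nat_lit 6, nat_lit 6],
   [nat_lit 4, nat_lit 4],
   [nat_lit 7, nat_lit 6, nat_lit 5, nat_lit 9, nat_lit 8, nat_lit 9, nat_lit 6, nat_lit 9, nat_lit 4, nat_lit 7]]]

def HT : List (List (Nat × Nat × Nat)) := [
  [(1, 17, 0), (1, 39, 0), (0, 1, 0), (1, 28, 0), (1, 15, 0)],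
  [(0, 44, 1), (0, 12, 0), (0, 1, 1), (1, 14, 2)],
  [(1, 36, 2), (0, 3, 0), (1, 18, 0), (1, 16, 0)],
  [(0, 30, 2), (0, 3, 1), (0, 13, 0)],
  [(0, 5, 0)],
  [(0, 6, 0), (1, 37, 1)],
  [(1, 26, 3)],
  [(1, 27, 1), (0, 0, 2), (0, 8, 0), (0, 33, 0)],
  [(0, 8, 1)],
  [(0, 0, 1), (1, 0, 0)],
  [(0, 0, 0), (1, 0, 1), (0, 11, 0), (0, 38, 2)],
  [(0, 44, 3), (0, 1, 1), (0, 39, 0), (0, 3, 1), (0, 40, 0), (0, 8, 1), (1, 43, 0), (0, 8, 0), (0, 10, 0), (0, 45, 0), (0, 3, 0), (0, 7, 0), (0, 5, 0), (0, 35, 2)]]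

def R : List (List Nat) :=
  [[9, 8, 10],
   [0, 1],
   [1, 0],
   [2, 3],
   [3, 2],
   [4, 4],
   [5, 5],
   [6, 6],
   [7, 8],
   [8, 7],
   [9, 9],
   [10, 10],
   [0, 0, 0],
   [2, 2, 2],
   [0, 2, 1, 3],
   [0, 4, 0, 4],
   [2, 4, 2, 4],
   [0, 5, 0, 5],
   [2, 6, 2, 6],
   [4, 5, 4, 5, 4, 5],
   [4, 6, 4, 6, 4, 6],
   [5, 6, 5, 6, 5, 6],
   [0, 3, 5, 3, 6, 1, 6, 5],
   [0, 4, 5, 6, 4, 5, 0, 6],
   [0, 7, 2, 8, 2],
   [0, 5, 7, 5, 8],
   [2, 7, 6, 8, 4],
   [0, 3, 5, 2, 7, 7],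
   [0, 9, 0, 9],
   [4, 9, 4, 9],
   [0, 2, 9, 3, 9],
   [7, 7, 7, 7],
   [5, 9, 5, 9, 5, 9],
   [0, 4, 7, 6, 2, 8],
   [0, 6, 7, 5, 4, 7],
   [4, 7, 7, 6, 5, 9, 8, 9, 6, 9],
   [0, 2, 7, 2, 8],
   [0, 7, 0, 7, 5],
   [2, 10, 4, 2, 10, 4],
   [0, 10, 9, 0, 10, 9],
   [0, 10, 0, 10, 0, 10],
   [5, 10, 5, 10, 5, 10],
   [0, 3, 0, 7, 3, 8],
   [0, 7, 3, 10, 0, 7, 3, 10],
   [0, 7, 1, 5, 7],
   [0, 10, 2, 5, 8, 10, 7, 7, 10, 5],
   [0, 8, 10, 2, 10, 7, 1, 10, 6, 4, 3, 10]]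

def W : List (List Nat) := []

noncomputable def P : Par := ⟨T, (nat_lit 4), (nat_lit 15), (nat_lit 169), (nat_lit 13), (nat_lit 8191), (nat_lit 6), (nat_lit 63), (nat_lit 11), (nat_lit 17), (nat_lit 48), (nat_lit 0xc5a927418a410c01), RT⟩

noncomputable def J0 : List Nat := [
  nat_lit 0x11c008b1013c0087115c0083116c008312013c0083131bc008b104185105104145145112c4b0041c61460008710410410410410518821b80062c5720022c4106144144118c00831049f0022c45314c010f104185380022c410410410414970012b11dc008b104106104117800053c41301380053c41597800002b71041041061041041045e800c7104124c0087104106104104104104104147f0030c4119c008b18410539960033c4120c008b1041041061041051ac0041c4870022c416680087104104104185980020c5896e0035c410410410416a00087105880021c610096964e0021b10538460033c410410410410414e51800cf15611800d310410410410410415651800f315a00030c41041061041041052800014311a8460014710410417e661180107104104460020c416251800d71,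
  nat_lit 0x1620460040c4104104104104460021c599460037c5a8460033c4104104104104105a9460038c4104104104104104104105584e0033c410410410410410415e13800cb10410410410415e53800ef149b0032c416200010315a80087104105393800050c61049b0022c406200000a9c669380033c41046a00040c4104104186580020c6599e0035c6789a9a0014710410410419a00087106580021c6109e0001931041041041041041041041041041041041041041041041041041041041041041041041041041041041041041041041041041041041041041041041041041041041041041041041041]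

theorem c0 : chk T (nat_lit 4) (nat_lit 15) (nat_lit 169) (nat_lit 13) (nat_lit 8191) (nat_lit 6) (nat_lit 63) (nat_lit 11) (nat_lit 17) (nat_lit 48) (nat_lit 0xc5a927418a410c01) (nat_lit 4) (nat_lit 15) RT (nat_lit 16) J0 (nat_lit 16) = true := by
  decide +kernel

theorem r0 : P.RowsOK 16 48 := chk_sound P _ _ _ J0 _ _ (by decide +kernel) c0

theorem index.{u} : IndexLe.{u} 11 R W 1 :=
  indexLe_of_cert P HT (by decide +kernel)
    (show P.RowsOK 16 48 from r0)

end Col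

theorem card : Finite G ∧ Nat.card G = 3265920 ∧ Function.Injective phi :=
  rep.card_eq up low

def primT : List (List Nat × List Nat) :=
  [([10, 0, 8, 10], [0, 8, 10, 6, 7, 8, 5, 0, 8, 10, 6, 3, 1]),
   ([10], [0, 1, 3, 0, 7, 6, 10, 8, 0, 7, 6, 0, 1, 6, 10])]

theorem prim_0 : Nat.beq (grow T ([10, 0, 8, 10] :: W0) [0, 8, 10, 6, 7, 8, 5, 0, 8, 10, 6, 3, 1] (pt (nat_lit 0))) (ivl (nat_lit 0) (nat_lit 112)) = true := by
  decide +kernel

theorem prim_1 : Nat.beq (grow T ([10] :: W0) [0, 1, 3, 0, 7, 6, 10, 8, 0, 7, 6, 0, 1, 6, 10] (pt (nat_lit 0))) (ivl (nat_lit 0) (nat_lit 112)) = true := by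
  decide +kernel

theorem prim : Prim (gen (sig T) 11) 0 :=
  prim_of_cert (W := W0) (ts := primT) (sch := [7, 9, 5, 6, 7, 9, 0, 6, 0, 9]) ok (ok.genW_le _) (by norm_num) (genW_le_gen (by decide +kernel)) (by decide +kernel)
    (fun t ht => ev_mem fun x hx => letter_mem_gen ((by decide +kernel : ∀ t ∈ primT, ∀ x ∈ t.1, x < 11) t ht x hx)) (by decide +kernel)
    (by simp only [primT, List.forall_mem_cons]; exact ⟨prim_0, prim_1, by simp⟩)

def XP : List (List Nat) := [[9, 8, 10, 9, 8, 10, 9, 8, 10, 9, 8, 10, 9, 8, 10, 9, 8, 10, 9, 8, 10]]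

theorem satX : Sat (sig T) XP :=
  sat_of_relsP ok (by norm_num) (show relsP (nat_lit 112) (nat_lit 7) (nat_lit 0) (nat_lit 7) T XP = true by decide +kernel)

theorem simple : IsSimpleGroup G :=
  rep.simple (m := 29160) (p := 7) (X := [[9, 8, 10]]) card.2.2 (by norm_num) (by norm_num) trans prim card.2.1 (by norm_num) pres.sat
    Col.index (by decide +kernel) (by decide +kernel) (satX.mono (by decide +kernel))


end Cfsg.Agent.SchurG.U43
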