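import Cfsg.Agent.SchurG.U43.Pres
import Cfsg.Agent.SchurG.U43.Top

set_option autoImplicit false
set_option maxRecDepth 100000

namespace Cfsg.Agent.SchurG.U43
open Cfsg.Agent.Comp

namespace Tk4

noncomputable def t0 : Tr := (Tr.leaf (nat_lit 0x1ffffffff001ffffffff001ffffffff001ffffffff001ffffffff001ffffffff001ffffffff001ffffffff001ffffffff001ffffffff001ffffffff001ffffffff001ffffffff861ffc28810821ffc08072001ffc19031))

noncomputable def T : Tr := t0

def RT : List (List (List Nat)) := [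
  [],
  [[nat_lit 0, nat_lit 0]],
  []]

def HT : List (List (Nat × Nat × Nat)) := [
  [],
  [(0, 2, 0)],
  []]

def R : List (List Nat) :=
  [[0, 1],
   [1, 0],
   [0, 0, 0]]

def W : List (List Nat) := []

noncomputable def P : Par := ⟨T, (nat_lit 4), (nat_lit 15), (nat_lit 44), (nat_lit 11), (nat_lit 2047), (nat_lit 5), (nat_lit 31), (nat_lit 2), (nat_lit 19), (nat_lit 32), (nat_lit 0x18801), RT⟩

noncomputable def J0 : List Nat := [
  nat_lit 0x124661111111111111111111111111111111111111111]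

theorem c0 : chk T (nat_lit 4) (nat_lit 15) (nat_lit 44) (nat_lit 11) (nat_lit 2047) (nat_lit 5) (nat_lit 31) (nat_lit 2) (nat_lit 19) (nat_lit 32) (nat_lit 0x18801) (nat_lit 2) (nat_lit 3) RT (nat_lit 16) J0 (nat_lit 16) = true := by
  decide +kernel

theorem r0 : P.RowsOK 16 32 := chk_sound P _ _ _ J0 _ _ (by decide +kernel) c0

theorem index.{u} : IndexLe.{u} 2 R W 3 :=
  indexLe_of_cert P HT (by decide +kernel)
    (show P.RowsOK 16 32 from r0)

end Tk4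

theorem upK_4 : CardLe (genW s [[0], [1]]) 3 :=
  CardLe.tc (V' := []) (n := 3) (m := 1) [0, 1] Tk4.index pres.sat (by decide +kernel) (by decide +kernel) (by decide +kernel) (cardLe_nil s)

namespace Tk3

noncomputable def t0 : Tr := (Tr.leaf (nat_lit 0xffffffffffffffffff000ffffffffffffffffff000ffffffffffffffffff000ffffffffffffffffff000ffffffffffffffffff000ffffffffffffffffff000ffffffffffffffffff000ffffffffffffffffff000ffffffffffffffffff000ffffffffffffffffff892fff0120530940b5095891fff0110b50530b4094490fff010074075093073470fff035051010072052450fff034010072071051000fff033032031050030))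

noncomputable def T : Tr := t0

def RT : List (List (List Nat)) := [
  [[nat_lit 6],
   [nat_lit 3, nat_lit 0, nat_lit 2],
   [nat_lit 2, nat_lit 0, nat_lit 3],
   [nat_lit 4, nat_lit 1, nat_lit 4]],
  [],
  [[nat_lit 4, nat_lit 3, nat_lit 4],
   [nat_lit 3, nat_lit 3]],
  [[nat_lit 2, nat_lit 2],
   [nat_lit 4, nat_lit 2, nat_lit 4]],
  [],
  []]

def HT : List (List (Nat × Nat × Nat)) := [
  [(2, 0, 0), (0, 7, 3), (1, 7, 0), (1, 8, 0)],
  [],
  [(1, 9, 0), (1, 6, 0)],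
  [(0, 6, 0), (0, 9, 1)],
  [],
  []]

def R : List (List Nat) :=
  [[0, 1],
   [1, 0],
   [2, 3],
   [3, 2],
   [4, 4],
   [0, 0, 0],
   [2, 2, 2],
   [0, 2, 1, 3],
   [0, 4, 0, 4],
   [2, 4, 2, 4]]

def W : List (List Nat) := [[0],
   [1]]

noncomputable def P : Par := ⟨T, (nat_lit 4), (nat_lit 15), (nat_lit 84), (nat_lit 12), (nat_lit 4095), (nat_lit 5), (nat_lit 31), (nat_lit 5), (nat_lit 22), (nat_lit 32), (nat_lit 0x18a410c01), RT⟩

noncomputable def J0 : List Nat := [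
  nat_lit 0x8c800058110182280680221a1088686e21084210842108421084210842108421084210842108421084210842108421084210842108421]

theorem c0 : chk T (nat_lit 4) (nat_lit 15) (nat_lit 84) (nat_lit 12) (nat_lit 4095) (nat_lit 5) (nat_lit 31) (nat_lit 5) (nat_lit 22) (nat_lit 32) (nat_lit 0x18a410c01) (nat_lit 3) (nat_lit 7) RT (nat_lit 16) J0 (nat_lit 16) = true := by
  decide +kernel

theorem r0 : P.RowsOK 16 32 := chk_sound P _ _ _ J0 _ _ (by decide +kernel) c0

theorem index.{u} : IndexLe.{u} 5 R W 6 :=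
  indexLe_of_cert P HT (by decide +kernel)
    (show P.RowsOK 16 32 from r0)

end Tk3

theorem upK_3 : CardLe (genW s [[0], [1], [2], [3], [4]]) 18 :=
  CardLe.tc (V' := [[0], [1]]) (n := 6) (m := 3) [0, 1, 2, 3, 4] Tk3.index pres.sat (by decide +kernel) (by decide +kernel) (by decide +kernel) upK_4

namespace Tk2

noncomputable def t0 : Tr := (Tr.node (nat_lit 0) (Tr.leaf (nat_lit 0x6553fff095c0140b7c31f0b7c1df067d914fffc0690c78014025411b077819e664ffff004c068079416002581a00559953fffc158004c29c08701dc077019c644ffff089c25b004c15e02541db066d152fffc0e300481600d942220394162444bfff0264067004819905640e40399052fffc19c04880660560118025c012404bfff0a7c0650190157045c0120361191fffc011018c06203740e006741204447fff018409500440db037819505550d1fffc060017c05e024c01105501144247fff017405c016c0110350153044c990fffc010016805904480d201600572543fff01580100154054014c1110344000fffc052014405002400500240050))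
(Tr.leaf (nat_lit 0x3fffffffffffffffffffffffffffc000ffffffffffffffffffffffffffff0003fffffffffffffffffffffffffffc000ffffffffffffffffffffffffffff0003fffffffffffffffffffffffffffe160fffc2a500803670b8c36806a0123867bfff00782a60b8c22703841e1099e15dfffc3a200743610ea8363088c1ea6567fff076c0190ea81a109a42a90485918fffc2e609a401807981a60264124655ffff0ba801706743e20e681620269917fffc164038401707901a40598099655bfff02680160ca43280ca816a09a1916fffc3e8036001607683a504681a56657fff00541240ea0129079c16708a5994fffc01401a819a025811d035815d)))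

noncomputable def T : Tr := t0

def RT : List (List (List Nat)) := [
  [[nat_lit 4, nat_lit 1, nat_lit 4],
   [nat_lit 5, nat_lit 1, nat_lit 5],
   [nat_lit 1, nat_lit 1],
   [nat_lit 8],
   [nat_lit 3, nat_lit 0, nat_lit 2],
   [nat_lit 2, nat_lit 0, nat_lit 3]],
  [[nat_lit 0, nat_lit 0],
   [nat_lit 4, nat_lit 0, nat_lit 4],
   [nat_lit 6, nat_lit 2, nat_lit 5, nat_lit 2, nat_lit 1, nat_lit 5, nat_lit 6],
   [nat_lit 5, nat_lit 0, nat_lit 5],
   [nat_lit 2, nat_lit 1, nat_lit 3]],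
  [[nat_lit 4, nat_lit 3, nat_lit 4],
   [nat_lit 6, nat_lit 3, nat_lit 6],
   [nat_lit 3, nat_lit 3],
   [nat_lit 8],
   [nat_lit 1, nat_lit 2, nat_lit 0],
   [nat_lit 0, nat_lit 2, nat_lit 1]],
  [[nat_lit 2, nat_lit 2],
   [nat_lit 4, nat_lit 2, nat_lit 4],
   [nat_lit 6, nat_lit 2, nat_lit 6],
   [nat_lit 5, nat_lit 2, nat_lit 1, nat_lit 5, nat_lit 6, nat_lit 0, nat_lit 6],
   [nat_lit 1, nat_lit 3, nat_lit 0]],
  [[nat_lit 8],
   [nat_lit 6, nat_lit 4, nat_lit 6, nat_lit 4, nat_lit 6],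
   [nat_lit 5, nat_lit 4, nat_lit 5, nat_lit 4, nat_lit 5],
   [nat_lit 5, nat_lit 6, nat_lit 4, nat_lit 5, nat_lit 0, nat_lit 6, nat_lit 0],
   [nat_lit 0, nat_lit 4, nat_lit 0],
   [nat_lit 1, nat_lit 4, nat_lit 1]],
  [[nat_lit 4, nat_lit 1, nat_lit 6, nat_lit 1, nat_lit 5, nat_lit 4, nat_lit 6],
   [nat_lit 0, nat_lit 5, nat_lit 0],
   [nat_lit 4, nat_lit 5, nat_lit 4, nat_lit 5, nat_lit 4],
   [nat_lit 6, nat_lit 5, nat_lit 6, nat_lit 5, nat_lit 6],
   [nat_lit 4, nat_lit 6, nat_lit 5, nat_lit 4, nat_lit 1, nat_lit 6, nat_lit 1]],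
  [[nat_lit 5, nat_lit 6, nat_lit 5, nat_lit 6, nat_lit 5],
   [nat_lit 5, nat_lit 0, nat_lit 3, nat_lit 5, nat_lit 3, nat_lit 6, nat_lit 1],
   [nat_lit 3, nat_lit 6, nat_lit 3],
   [nat_lit 4, nat_lit 6, nat_lit 4, nat_lit 6, nat_lit 4],
   [nat_lit 2, nat_lit 6, nat_lit 2]],
  []]

def HT : List (List (Nat × Nat × Nat)) := [
  [(1, 10, 0), (1, 12, 0), (1, 7, 0), (2, 0, 0), (0, 9, 3), (1, 9, 0)],
  [(0, 7, 0), (0, 10, 1), (1, 17, 3), (0, 12, 1), (0, 9, 1)],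
  [(1, 11, 0), (1, 13, 0), (1, 8, 0), (2, 2, 0), (1, 9, 3), (0, 9, 0)],
  [(0, 8, 0), (0, 11, 1), (0, 13, 1), (1, 17, 5), (0, 9, 2)],
  [(2, 4, 0), (0, 15, 1), (0, 14, 1), (0, 18, 2), (0, 10, 0), (1, 10, 1)],
  [(1, 18, 6), (0, 12, 0), (0, 14, 0), (0, 16, 1), (1, 18, 3)],
  [(0, 16, 0), (0, 17, 7), (1, 13, 1), (0, 15, 0), (0, 13, 0)],
  []]

def R : List (List Nat) :=
  [[0, 1],
   [1, 0],
   [2, 3],
   [3, 2],
   [4, 4],
   [5, 5],
   [6, 6],
   [0, 0, 0],
   [2, 2, 2],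
   [0, 2, 1, 3],
   [0, 4, 0, 4],
   [2, 4, 2, 4],
   [0, 5, 0, 5],
   [2, 6, 2, 6],
   [4, 5, 4, 5, 4, 5],
   [4, 6, 4, 6, 4, 6],
   [5, 6, 5, 6, 5, 6],
   [0, 3, 5, 3, 6, 1, 6, 5],
   [0, 4, 5, 6, 4, 5, 0, 6]]

def W : List (List Nat) := [[0],
   [1],
   [2],
   [3],
   [4]]

noncomputable def P : Par := ⟨T, (nat_lit 4), (nat_lit 15), (nat_lit 126), (nat_lit 14), (nat_lit 16383), (nat_lit 6), (nat_lit 63), (nat_lit 7), (nat_lit 43), (nat_lit 48), (nat_lit 0x8398a410c01), RT⟩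

noncomputable def J0 : List Nat := [
  nat_lit 0x2f200017900008c80160011010180221c044001e2280014008c01000022111c00018ae000101088a1004b1014108d016189161e1802214238c016187161,
  nat_lit 0xd24022100002211638e0100611414108a41740d1018d08ba16051181080f1c1d9a822177dd14108421084210842108421084210842108421084210842108421]

theorem c0 : chk T (nat_lit 4) (nat_lit 15) (nat_lit 126) (nat_lit 14) (nat_lit 16383) (nat_lit 6) (nat_lit 63) (nat_lit 7) (nat_lit 43) (nat_lit 48) (nat_lit 0x8398a410c01) (nat_lit 3) (nat_lit 7) RT (nat_lit 16) J0 (nat_lit 16) = true := by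
  decide +kernel

theorem r0 : P.RowsOK 16 48 := chk_sound P _ _ _ J0 _ _ (by decide +kernel) c0

theorem index.{u} : IndexLe.{u} 7 R W 27 :=
  indexLe_of_cert P HT (by decide +kernel)
    (show P.RowsOK 16 48 from r0)

end Tk2

theorem upK_2 : CardLe (genW s [[0], [1], [2], [3], [4], [5], [6]]) 486 :=
  CardLe.tc (V' := [[0], [1], [2], [3], [4]]) (n := 27) (m := 18) [0, 1, 2, 3, 4, 5, 6] Tk2.index pres.sat (by decide +kernel) (by decide +kernel) (by decide +kernel) upK_3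

namespace Tk1

noncomputable def t0 : Tr := (Tr.leaf (nat_lit 0x1fffffffffffffffffffffffffff800fffffffffffffffffffffffffffc007ffffffffffffffffffffffffffe003fffffffffffffffffffffffffff001fffffffffffffffffffffffffff800fffffffffffffffffffffffffffc007ffffffffffffffffffffffffffe003fffffffffffffffffffffffffff001fffffffffffffffffffffffffff800fffffffffffffffffffffffffffc007ffffffffffffffffffffffffffe003fffffffffffffffffffffffffff001fffffffffffffffffffffffffff800fffffffffffffffffffffffffffe787ff0201c03885116224438891162003ff8910620c0180300a00c028030))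

noncomputable def T : Tr := t0

def RT : List (List (List Nat)) := [
  [[nat_lit 10]],
  [[nat_lit 6, nat_lit 7, nat_lit 5, nat_lit 4, nat_lit 7]],
  [[nat_lit 10],
   [nat_lit 8, nat_lit 1, nat_lit 3, nat_lit 7]],
  [],
  [[nat_lit 10],
   [nat_lit 2, nat_lit 7, nat_lit 6, nat_lit 8]],
  [[nat_lit 10],
   [nat_lit 8, nat_lit 0, nat_lit 5, nat_lit 7]],
  [[nat_lit 8, nat_lit 3, nat_lit 4, nat_lit 7],
   [nat_lit 10]],
  [[nat_lit 8, nat_lit 3, nat_lit 5, nat_lit 2, nat_lit 1]],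
  [],
  []]

def HT : List (List (Nat × Nat × Nat)) := [
  [(2, 0, 0)],
  [(0, 27, 1)],
  [(2, 2, 0), (1, 21, 3)],
  [],
  [(2, 4, 0), (0, 23, 0)],
  [(2, 5, 0), (0, 22, 4)],
  [(1, 23, 3), (2, 6, 0)],
  [(1, 24, 1)],
  [],
  []]

def R : List (List Nat) :=
  [[0, 1],
   [1, 0],
   [2, 3],
   [3, 2],
   [4, 4],
   [5, 5],
   [6, 6],
   [7, 8],
   [8, 7],
   [0, 0, 0],
   [2, 2, 2],
   [0, 2, 1, 3],
   [0, 4, 0, 4],
   [2, 4, 2, 4],
   [0, 5, 0, 5],
   [2, 6, 2, 6],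
   [4, 5, 4, 5, 4, 5],
   [4, 6, 4, 6, 4, 6],
   [5, 6, 5, 6, 5, 6],
   [0, 3, 5, 3, 6, 1, 6, 5],
   [0, 4, 5, 6, 4, 5, 0, 6],
   [0, 7, 2, 8, 2],
   [0, 5, 7, 5, 8],
   [2, 7, 6, 8, 4],
   [0, 3, 5, 2, 7, 7],
   [7, 7, 7, 7],
   [0, 4, 7, 6, 2, 8],
   [0, 6, 7, 5, 4, 7],
   [0, 2, 7, 2, 8],
   [0, 7, 0, 7, 5],
   [0, 3, 0, 7, 3, 8],
   [0, 7, 1, 5, 7]]

def W : List (List Nat) := [[0],
   [1],
   [2],
   [3],
   [4],
   [5],
   [6]]

noncomputable def P : Par := ⟨T, (nat_lit 4), (nat_lit 15), (nat_lit 121), (nat_lit 11), (nat_lit 2047), (nat_lit 5), (nat_lit 31), (nat_lit 9), (nat_lit 18), (nat_lit 32), (nat_lit 0x2927418a410c01), RT⟩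

noncomputable def J0 : List Nat := [
  nat_lit 0x4d0001340004d0004d0005d012cfa9111111111111111111111111111111111111111111111111111111111111111111111111111111111111111111111111111111111111111111111111111111111111111111111]

theorem c0 : chk T (nat_lit 4) (nat_lit 15) (nat_lit 121) (nat_lit 11) (nat_lit 2047) (nat_lit 5) (nat_lit 31) (nat_lit 9) (nat_lit 18) (nat_lit 32) (nat_lit 0x2927418a410c01) (nat_lit 2) (nat_lit 3) RT (nat_lit 16) J0 (nat_lit 16) = true := by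
  decide +kernel

theorem r0 : P.RowsOK 16 32 := chk_sound P _ _ _ J0 _ _ (by decide +kernel) c0

theorem index.{u} : IndexLe.{u} 9 R W 2 :=
  indexLe_of_cert P HT (by decide +kernel)
    (show P.RowsOK 16 32 from r0)

end Tk1

theorem upK_1 : CardLe (genW s [[0], [1], [2], [3], [4], [5], [6], [7], [8]]) 972 :=
  CardLe.tc (V' := [[0], [1], [2], [3], [4], [5], [6]]) (n := 2) (m := 486) [0, 1, 2, 3, 4, 5, 6, 7, 8] Tk1.index pres.sat (by decide +kernel) (by decide +kernel) (by decide +kernel) upK_2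

namespace Tk0

noncomputable def t0 : Tr := (Tr.node (nat_lit 0) (Tr.leaf (nat_lit 0x654ffff17802e00c840ea004c56017ac36918ac1e9644ffff058c625155c0de15540130a7825e146c554614ffff05886aa139822506a4514097421d0270013604ffff08683e3106442819ac4db097021c004c0dd684bfff15a83e8004819b038849c096c29b045055e674bfff09700120fa05a7055052a07542a20988195664bfff19a445c01ac01201a806903984a00f984a0644bfff03604240d905a2036001219900e708601d8634bfff075c59e0d884e001a00670258012075c197624bfff07582540a54066019466400480d707581964847fff034c2d600440641678063088821a07680624747fff16840110a581d4066855d08501d4167815b4647fff04540610180011017c05e084c1d3017405c4547fff024805b01680590044058015c05606481522943fff004005501500530148091064415104440d10003fff01440900140050014005002400500240050))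
(Tr.leaf (nat_lit 0x3ffffffffffffffffffffffffffffffffffffff0003ffffffffffffffffffffffffffffffffffffffa9a3fff00a06ec1ab076d08b44ad12b446d0bb42ada997fff00946ed1cb472c08b046c0eb036c0bb02ac8767fff1898019128c36318705e617a459f19a45df8567fff146c4a9197409f00644da1384523138c4a18467fff1a646e613a852105740190c7c62b067c6ab855ffff01b439a0e6c3dc005c46811a042809a0228845ffff089c627179c55a129c01702605a4099c227865bfff19ac49d1aa4016128462b13800991380399855bfff01b02a217781dd00584250d9432509942256657fff1a903180f600150e90616179c6180e903e46457fff04784eb0e703ab048001515a80a1098452a6057fff04743170b945d8026c22109681d5005421a684ffff155035f004c5691398262038c52a13a82a3674ffff187c0130a7c517058c51f13645261364526)))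

noncomputable def T : Tr := t0

def RT : List (List (List Nat)) := [
  [[nat_lit 11],
   [nat_lit 9, nat_lit 1, nat_lit 9],
   [nat_lit 5, nat_lit 1, nat_lit 5],
   [nat_lit 3, nat_lit 0, nat_lit 2],
   [nat_lit 2, nat_lit 0, nat_lit 3],
   [nat_lit 4, nat_lit 1, nat_lit 4],
   [nat_lit 5, nat_lit 8, nat_lit 1, nat_lit 8],
   [nat_lit 1, nat_lit 1],
   [nat_lit 6, nat_lit 5, nat_lit 0, nat_lit 3, nat_lit 5, nat_lit 3, nat_lit 6],
   [nat_lit 8, nat_lit 1, nat_lit 5, nat_lit 8]],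
  [[nat_lit 0, nat_lit 0],
   [nat_lit 7, nat_lit 5, nat_lit 0, nat_lit 7],
   [nat_lit 4, nat_lit 0, nat_lit 4],
   [nat_lit 6, nat_lit 7, nat_lit 5, nat_lit 4, nat_lit 7],
   [nat_lit 5, nat_lit 0, nat_lit 5],
   [nat_lit 2, nat_lit 1, nat_lit 3]],
  [[nat_lit 6, nat_lit 3, nat_lit 6],
   [nat_lit 4, nat_lit 7, nat_lit 6, nat_lit 8],
   [nat_lit 11],
   [nat_lit 1, nat_lit 9, nat_lit 2, nat_lit 9],
   [nat_lit 1, nat_lit 2, nat_lit 0],
   [nat_lit 0, nat_lit 2, nat_lit 1],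
   [nat_lit 4, nat_lit 3, nat_lit 4],
   [nat_lit 8, nat_lit 1, nat_lit 3, nat_lit 7],
   [nat_lit 1, nat_lit 7, nat_lit 3, nat_lit 8],
   [nat_lit 8, nat_lit 3, nat_lit 1, nat_lit 7],
   [nat_lit 3, nat_lit 3]],
  [[nat_lit 2, nat_lit 2],
   [nat_lit 4, nat_lit 2, nat_lit 4],
   [nat_lit 0, nat_lit 7, nat_lit 2, nat_lit 8],
   [nat_lit 1, nat_lit 3, nat_lit 0],
   [nat_lit 1, nat_lit 8, nat_lit 8, nat_lit 3, nat_lit 5],
   [nat_lit 0, nat_lit 3, nat_lit 1]],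
  [[nat_lit 2, nat_lit 4, nat_lit 2],
   [nat_lit 11],
   [nat_lit 9, nat_lit 4, nat_lit 9],
   [nat_lit 2, nat_lit 7, nat_lit 6, nat_lit 8],
   [nat_lit 6, nat_lit 5, nat_lit 4, nat_lit 1, nat_lit 6, nat_lit 1, nat_lit 5],
   [nat_lit 1, nat_lit 4, nat_lit 1],
   [nat_lit 0, nat_lit 4, nat_lit 0],
   [nat_lit 3, nat_lit 4, nat_lit 3]],
  [[nat_lit 1, nat_lit 7, nat_lit 5, nat_lit 8],
   [nat_lit 8, nat_lit 5, nat_lit 1, nat_lit 7],
   [nat_lit 4, nat_lit 7, nat_lit 0, nat_lit 6, nat_lit 7],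
   [nat_lit 4, nat_lit 5, nat_lit 4, nat_lit 5, nat_lit 4],
   [nat_lit 8, nat_lit 0, nat_lit 5, nat_lit 7],
   [nat_lit 4, nat_lit 6, nat_lit 5, nat_lit 4, nat_lit 1, nat_lit 6, nat_lit 1],
   [nat_lit 11],
   [nat_lit 9, nat_lit 5, nat_lit 9, nat_lit 5, nat_lit 9],
   [nat_lit 0, nat_lit 8, nat_lit 1, nat_lit 8],
   [nat_lit 1, nat_lit 5, nat_lit 1],
   [nat_lit 0, nat_lit 5, nat_lit 0]],
  [[nat_lit 5, nat_lit 6, nat_lit 5, nat_lit 6, nat_lit 5],
   [nat_lit 8, nat_lit 3, nat_lit 4, nat_lit 7],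
   [nat_lit 5, nat_lit 0, nat_lit 3, nat_lit 5, nat_lit 3, nat_lit 6, nat_lit 1],
   [nat_lit 7, nat_lit 5, nat_lit 4, nat_lit 7, nat_lit 0],
   [nat_lit 4, nat_lit 6, nat_lit 4, nat_lit 6, nat_lit 4],
   [nat_lit 8, nat_lit 4, nat_lit 1, nat_lit 7, nat_lit 3],
   [nat_lit 11],
   [nat_lit 2, nat_lit 6, nat_lit 2],
   [nat_lit 3, nat_lit 6, nat_lit 3],
   [nat_lit 8, nat_lit 4, nat_lit 2, nat_lit 7]],
  [[nat_lit 8, nat_lit 8, nat_lit 8],
   [nat_lit 5, nat_lit 1, nat_lit 7, nat_lit 5],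
   [nat_lit 1, nat_lit 8, nat_lit 5, nat_lit 0],
   [nat_lit 1, nat_lit 8, nat_lit 1, nat_lit 5],
   [nat_lit 11],
   [nat_lit 8, nat_lit 4, nat_lit 9, nat_lit 6, nat_lit 9, nat_lit 7, nat_lit 9, nat_lit 5, nat_lit 6],
   [nat_lit 5, nat_lit 0, nat_lit 8, nat_lit 1],
   [nat_lit 4, nat_lit 2, nat_lit 7, nat_lit 6],
   [nat_lit 9, nat_lit 6, nat_lit 9, nat_lit 4, nat_lit 7, nat_lit 7, nat_lit 6, nat_lit 5, nat_lit 9]],
  [[nat_lit 3, nat_lit 8, nat_lit 1, nat_lit 3],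
   [nat_lit 2, nat_lit 8, nat_lit 0, nat_lit 2],
   [nat_lit 5, nat_lit 8, nat_lit 0, nat_lit 5],
   [nat_lit 6, nat_lit 8, nat_lit 3, nat_lit 4],
   [nat_lit 5, nat_lit 0, nat_lit 7, nat_lit 0],
   [nat_lit 2, nat_lit 8, nat_lit 2, nat_lit 0],
   [nat_lit 1, nat_lit 5, nat_lit 7, nat_lit 0]],
  [[nat_lit 5, nat_lit 9, nat_lit 5, nat_lit 9, nat_lit 5],
   [nat_lit 4, nat_lit 9, nat_lit 4],
   [nat_lit 3, nat_lit 1, nat_lit 9, nat_lit 2],
   [nat_lit 0, nat_lit 2, nat_lit 9, nat_lit 3],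
   [nat_lit 7, nat_lit 9, nat_lit 5, nat_lit 6, nat_lit 8, nat_lit 8, nat_lit 4, nat_lit 9, nat_lit 6],
   [nat_lit 1, nat_lit 9, nat_lit 1],
   [nat_lit 0, nat_lit 9, nat_lit 0]],
  []]

def HT : List (List (Nat × Nat × Nat)) := [
  [(2, 0, 0), (1, 26, 0), (1, 15, 0), (0, 12, 3), (1, 12, 0), (1, 13, 0), (1, 35, 0), (1, 10, 0), (0, 20, 6), (1, 35, 3)],
  [(0, 10, 0), (0, 35, 3), (0, 13, 1), (0, 32, 1), (0, 15, 1), (0, 12, 1)],
  [(1, 16, 0), (1, 24, 0), (2, 2, 0), (1, 28, 4), (1, 12, 3), (0, 12, 0), (1, 14, 0), (1, 22, 3), (1, 34, 4), (1, 34, 2), (1, 11, 0)],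
  [(0, 11, 0), (0, 14, 1), (0, 22, 0), (0, 12, 2), (1, 25, 5), (1, 12, 1)],
  [(0, 14, 0), (2, 4, 0), (0, 27, 1), (0, 24, 0), (1, 21, 4), (1, 13, 1), (0, 13, 0), (1, 14, 1)],
  [(1, 23, 4), (1, 23, 2), (0, 32, 4), (0, 17, 0), (0, 23, 4), (1, 21, 3), (2, 5, 0), (0, 30, 1), (1, 37, 2), (1, 15, 1), (0, 15, 0)],
  [(0, 19, 0), (1, 24, 3), (0, 20, 7), (0, 32, 2), (0, 18, 0), (1, 31, 3), (2, 6, 0), (0, 16, 0), (1, 16, 1), (0, 24, 3)],
  [(1, 29, 0), (1, 23, 3), (1, 37, 4), (1, 35, 2), (2, 7, 0), (1, 33, 8), (1, 37, 1), (0, 24, 4), (0, 33, 7)],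
  [(1, 22, 2), (0, 34, 3), (0, 23, 3), (1, 24, 2), (0, 35, 4), (0, 22, 2), (0, 37, 2)],
  [(0, 30, 0), (0, 27, 0), (1, 28, 3), (0, 28, 0), (1, 33, 3), (1, 26, 1), (0, 26, 0)],
  []]

def R : List (List Nat) :=
  [[0, 1],
   [1, 0],
   [2, 3],
   [3, 2],
   [4, 4],
   [5, 5],
   [6, 6],
   [7, 8],
   [8, 7],
   [9, 9],
   [0, 0, 0],
   [2, 2, 2],
   [0, 2, 1, 3],
   [0, 4, 0, 4],
   [2, 4, 2, 4],
   [0, 5, 0, 5],
   [2, 6, 2, 6],
   [4, 5, 4, 5, 4, 5],
   [4, 6, 4, 6, 4, 6],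
   [5, 6, 5, 6, 5, 6],
   [0, 3, 5, 3, 6, 1, 6, 5],
   [0, 4, 5, 6, 4, 5, 0, 6],
   [0, 7, 2, 8, 2],
   [0, 5, 7, 5, 8],
   [2, 7, 6, 8, 4],
   [0, 3, 5, 2, 7, 7],
   [0, 9, 0, 9],
   [4, 9, 4, 9],
   [0, 2, 9, 3, 9],
   [7, 7, 7, 7],
   [5, 9, 5, 9, 5, 9],
   [0, 4, 7, 6, 2, 8],
   [0, 6, 7, 5, 4, 7],
   [4, 7, 7, 6, 5, 9, 8, 9, 6, 9],
   [0, 2, 7, 2, 8],
   [0, 7, 0, 7, 5],
   [0, 3, 0, 7, 3, 8],
   [0, 7, 1, 5, 7]]

def W : List (List Nat) := [[0],
   [1],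
   [2],
   [3],
   [4],
   [5],
   [6],
   [7],
   [8]]

noncomputable def P : Par := ⟨T, (nat_lit 4), (nat_lit 15), (nat_lit 168), (nat_lit 14), (nat_lit 16383), (nat_lit 6), (nat_lit 63), (nat_lit 10), (nat_lit 46), (nat_lit 48), (nat_lit 0x5a927418a410c01), RT⟩

noncomputable def J0 : List Nat := [
  nat_lit 0x10c400012c400011c40016c40016c40014c40013050400008414000084000810020008400010090003084010000000841815008400089016084802401417000856400c1b0b00084020180040300840103055058400108580001c1c1849c1c000001948086da4001000008408081,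
  nat_lit 0x700384010000000840c1986888800dc10430850100c105c0968554c140b068509001a2220a861c017023855a40c140a0584cd801060685e8000182c7884910c167222c728601305049b00841305049ba8841041041041041041041041041041041041]

theorem c0 : chk T (nat_lit 4) (nat_lit 15) (nat_lit 168) (nat_lit 14) (nat_lit 16383) (nat_lit 6) (nat_lit 63) (nat_lit 10) (nat_lit 46) (nat_lit 48) (nat_lit 0x5a927418a410c01) (nat_lit 4) (nat_lit 15) RT (nat_lit 16) J0 (nat_lit 16) = true := by
  decide +kernel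

theorem r0 : P.RowsOK 16 48 := chk_sound P _ _ _ J0 _ _ (by decide +kernel) c0

theorem index.{u} : IndexLe.{u} 10 R W 30 :=
  indexLe_of_cert P HT (by decide +kernel)
    (show P.RowsOK 16 48 from r0)

end Tk0

theorem upK : CardLe (genW s [[0], [1], [2], [3], [4], [5], [6], [7], [8], [9]]) 29160 :=
  CardLe.tc (V' := [[0], [1], [2], [3], [4], [5], [6], [7], [8]]) (n := 30) (m := 972) [0, 1, 2, 3, 4, 5, 6, 7, 8, 9] Tk0.index pres.sat (by decide +kernel) (by decide +kernel) (by decide +kernel) upK_1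

theorem up : CardLe (gen s 11) 3265920 := upK.step (Top.index _ s pres.sat)

end Cfsg.Agent.SchurG.U43
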